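import Cfsg.Agent.H908.E8L.BConj
import Cfsg.Agent.H208.E83.HB2
import Cfsg.Agent.H238.E8.Inj
import Cfsg.Agent.H934.E83.Inj

/-!
# Frobenius subgroups `11:5` of `E₈(3)` (S5925, box C), the instance

`bconj_e8`: every pair `(x, y)` in `E₈(3)` with `x` of order 11, `y ^ 5 = 1`, `y x y⁻¹ = x ^ 3` is conjugate to
`(ph₂ Mo, ph₂ Fr)` or to `(ph₂ Mo, ph₂ Fr ph₁ Fr)`.
-/

set_option autoImplicit false

namespace Cfsg.Agent.H908.E8L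

open Cfsg Cfsg.Lie Cfsg.Agent.H238.E8

theorem ph2_mo_ne : ph2 (ZMod 3) Mo ≠ 1 := by
  intro h
  apply mo_ne
  apply Cfsg.Agent.H934.E83.ph2_inj (K := ZMod 3)
  rw [h, map_one]

theorem conj_mo (x : ↥(chevE8.group (ZMod 3))) (hx : x ^ 11 = 1) (hx1 : x ≠ 1) :
    ∃ g : ↥(chevE8.group (ZMod 3)), g * x * g⁻¹ = ph2 (ZMod 3) Mo :=
  Cfsg.Agent.H208.E83.hB2_of Cfsg.Agent.H208.E83.all11 (ph2 (ZMod 3)) mo_pow11 ph2_mo_ne x hx hx1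

/-- **BCONJ for `E₈(3)`.** -/
theorem bconj_e8 (x y : ↥(chevE8.group (ZMod 3))) (hx : x ^ 11 = 1) (hx1 : x ≠ 1) (hy : y ^ 5 = 1)
    (hxy : y * x * y⁻¹ = x ^ 3) :
    ∃ g : ↥(chevE8.group (ZMod 3)), g * x * g⁻¹ = ph2 (ZMod 3) Mo ∧
      (g * y * g⁻¹ = ph2 (ZMod 3) Fr ∨ g * y * g⁻¹ = ph2 (ZMod 3) Fr * ph1 (ZMod 3) Fr) :=
  bconj (ph1 (ZMod 3)) (ph2 (ZMod 3)) (fun a b => (ph_comm (ZMod 3) a b).eq) (Cfsg.Agent.H934.E83.ph1_inj (K := ZMod 3))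
    (fun _ hg => cent_x0' hg) conj_mo x y hx hx1 hy hxy

end Cfsg.Agent.H908.E8L
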