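import Cfsg.Agent.H908.E8L.BConjE8
import Cfsg.Agent.H114.E8L.Stmt

/-!
# S5925: the boxes B, B2, C in the form of `H114.E8L.Stmt`
-/

set_option autoImplicit false

namespace Cfsg.Agent.H908.E8L

open Matrix Cfsg Cfsg.Lie Cfsg.Agent.H238.E8

theorem moS_eq : Cfsg.Agent.H114.E8L.MoS = Mo := rfl

theorem frS_eq : Cfsg.Agent.H114.E8L.FrS = Fr := rfl

theorem x0_eq : Cfsg.Agent.H114.E8L.x0 = ph2 (ZMod 3) Mo := by
  unfold Cfsg.Agent.H114.E8L.x0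
  rw [moS_eq]

theorem y2_eq : Cfsg.Agent.H114.E8L.y2 = ph2 (ZMod 3) Fr := by
  unfold Cfsg.Agent.H114.E8L.y2
  rw [frS_eq]

theorem y0_eq : Cfsg.Agent.H114.E8L.y0 = ph2 (ZMod 3) Fr * ph1 (ZMod 3) Fr := by
  unfold Cfsg.Agent.H114.E8L.y0
  rw [frS_eq]

/-- box B2 of S5925 -/
theorem b2 : Cfsg.Agent.H114.E8L.B2 := by
  intro x hx hx1
  rw [x0_eq]
  exact conj_mo x hx hx1

/-- box B of S5925 -/
theorem bb : Cfsg.Agent.H114.E8L.BB := by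
  intro g hg
  rw [x0_eq] at hg
  obtain ⟨e, i, h⟩ := cent_x0' hg
  refine ⟨e, Sg ^ i, ?_, ?_⟩
  · rw [moS_eq]
    exact (Commute.pow_left (show Commute Sg Mo from sg_mo) i).eq
  · rw [map_pow]
    exact h

/-- **box C of S5925** -/
theorem bc : Cfsg.Agent.H114.E8L.BC := by
  intro x y hx hx1 hy _ hxy
  rw [x0_eq, y2_eq, y0_eq]
  exact bconj_e8 x y hx hx1 hy hxy

end Cfsg.Agent.H908.E8L
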